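import Cfsg.Agent.H810.RIM.BCent
import Cfsg.Agent.KFacts.HN.Classes

/-!
# `|C(g)| = 25` for `g` of order 25 in the Harada-Norton group (helper175, compiled by helper810)
-/

set_option autoImplicit false

namespace Cfsg.Agent.H175.Ore.HNOrdFive

open Cfsg Cfsg.Agent
open Subgroup (centralizer mem_centralizer_singleton_iff zpowers)

theorem fin_HN : Finite Spor.HN := by
  apply Nat.finite_of_card_ne_zero
  rw [Cfsg.Agent.KFacts.HN.Classes.card_HN]
  norm_num

theorem card_le {X Y : Type*} [Group X] [Group Y] [Finite Y] (θ : X →* Y) (hθ : Function.Injective θ) (g : X) :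
    Nat.card (centralizer ({g} : Set X)) ≤ Nat.card (centralizer ({θ g} : Set Y)) := by
  refine Nat.card_le_card_of_injective (fun c : centralizer ({g} : Set X) =>
    (⟨θ c, ?_⟩ : centralizer ({θ g} : Set Y))) ?_
  · rw [mem_centralizer_singleton_iff, ← map_mul, ← map_mul, mem_centralizer_singleton_iff.1 c.2]
  · intro c d h
    exact Subtype.ext (hθ (congrArg Subtype.val h))

theorem card_cent {g : Spor.HN} (hg : orderOf g = 25) : Nat.card (centralizer ({g} : Set Spor.HN)) = 25 := by
  have hfin := fin_HN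
  have hB := Cfsg.Agent.H810.RIM.BCent.fin_B
  obtain ⟨θ, hθ⟩ := Cfsg.Agent.H525.RO.BRow.exists_hom
  apply le_antisymm
  · exact (card_le θ hθ g).trans
      (Cfsg.Agent.H810.RIM.BCent.card_cent_map hθ (x := θ g) (by rw [orderOf_injective θ hθ, hg])).le
  · refine hg.symm.le.trans (Nat.le_of_dvd Nat.card_pos (Subgroup.orderOf_dvd_natCard _ ?_))
    exact mem_centralizer_singleton_iff.2 rfl

theorem cent_25 (g : Spor.HN) (hg : orderOf g = 25) : Nat.card (centralizer ({g} : Set Spor.HN)) ≤ 78408 := by
  rw [card_cent hg]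
  norm_num

end Cfsg.Agent.H175.Ore.HNOrdFive
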