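import Cfsg.Agent.H175.Ore.SymRows

/-!
# The numerical part of the degrees at most 770 of `HN` (helper175)
-/

set_option autoImplicit false

namespace Cfsg.Agent.H175.Ore.HNNum

open Cfsg.Agent.H175.Ore.SymTab (rows)

/-- a sum over 14 indices -/
theorem sum14 (f : Fin 14 → ℤ) : ∑ i, f i = f 0 + f 1 + f 2 + f 3 + f 4 + f 5 + f 6 + f 7 + f 8 + f 9 + f 10 + f 11 +
    f 12 + f 13 := by
  simp only [Fin.sum_univ_castSucc, Fin.sum_univ_zero, zero_add]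
  rfl

/-- the coordinate `j` of the row `i` -/
def R (i j : ℕ) : ℤ := (rows.getD i []).getD j 0

theorem col0 (n : Fin 14 → ℕ) : ∑ i : Fin 14, (n i : ℤ) * (rows.getD i []).getD ((0 : Fin 6) : ℕ) 0 =
    n 0 + 11 * n 1 + 54 * n 2 + 55 * n 3 + 132 * n 4 + 154 * n 5 + 165 * n 6 + 275 * n 7 + 297 * n 8 + 320 * n 9 +
      330 * n 10 + 462 * n 11 + 462 * n 12 + 616 * n 13 := by
  rw [sum14]
  change (n 0 : ℤ) * 1 + n 1 * 11 + n 2 * 54 + n 3 * 55 + n 4 * 132 + n 5 * 154 + n 6 * 165 + n 7 * 275 + n 8 * 297 +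
    n 9 * 320 + n 10 * 330 + n 11 * 462 + n 12 * 462 + n 13 * 616 = _
  ring

theorem col1 (n : Fin 14 → ℕ) : ∑ i : Fin 14, (n i : ℤ) * (rows.getD i []).getD ((1 : Fin 6) : ℕ) 0 =
    9 * n 1 + 27 * n 2 + 27 * n 3 + 45 * n 5 + 54 * n 6 + 54 * n 7 + 27 * n 8 + 108 * n 9 +
      81 * n 10 - 54 * n 11 + 81 * n 12 + 108 * n 13 := by
  rw [sum14]
  change (n 0 : ℤ) * 0 + n 1 * 9 + n 2 * 27 + n 3 * 27 + n 4 * 0 + n 5 * 45 + n 6 * 54 + n 7 * 54 + n 8 * 27 +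
    n 9 * 108 + n 10 * 81 + n 11 * (-54) + n 12 * 81 + n 13 * 108 = _
  ring

theorem col2 (n : Fin 14 → ℕ) : ∑ i : Fin 14, (n i : ℤ) * (rows.getD i []).getD ((2 : Fin 6) : ℕ) 0 =
    8 * n 1 + 16 * n 2 + 24 * n 3 + 48 * n 5 + 16 * n 6 + 40 * n 7 + 64 * n 8 + 64 * n 9 -
      16 * n 10 - 16 * n 11 - 32 * n 12 + 32 * n 13 := by
  rw [sum14]
  change (n 0 : ℤ) * 0 + n 1 * 8 + n 2 * 16 + n 3 * 24 + n 4 * 0 + n 5 * 48 + n 6 * 16 + n 7 * 40 + n 8 * 64 +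
    n 9 * 64 + n 10 * (-16) + n 11 * (-16) + n 12 * (-32) + n 13 * 32 = _
  ring

theorem col3 (n : Fin 14 → ℕ) : ∑ i : Fin 14, (n i : ℤ) * (rows.getD i []).getD ((3 : Fin 6) : ℕ) 0 =
    n 0 - n 2 + n 9 := by
  rw [sum14]
  change (n 0 : ℤ) * 1 + n 1 * 0 + n 2 * (-1) + n 3 * 0 + n 4 * 0 + n 5 * 0 + n 6 * 0 + n 7 * 0 + n 8 * 0 +
    n 9 * 1 + n 10 * 0 + n 11 * 0 + n 12 * 0 + n 13 * 0 = _
  ring

theorem col4 (n : Fin 14 → ℕ) : ∑ i : Fin 14, (n i : ℤ) * (rows.getD i []).getD ((4 : Fin 6) : ℕ) 0 =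
    n 0 + 7 * n 1 + 22 * n 2 + 19 * n 3 + 20 * n 4 + 42 * n 5 + 21 * n 6 + 55 * n 7 + 49 * n 8 + 64 * n 9 -
      6 * n 10 + 14 * n 11 - 42 * n 12 + 56 * n 13 := by
  rw [sum14]
  change (n 0 : ℤ) * 1 + n 1 * 7 + n 2 * 22 + n 3 * 19 + n 4 * 20 + n 5 * 42 + n 6 * 21 + n 7 * 55 + n 8 * 49 +
    n 9 * 64 + n 10 * (-6) + n 11 * 14 + n 12 * (-42) + n 13 * 56 = _
  ring

theorem col5 (n : Fin 14 → ℕ) : ∑ i : Fin 14, (n i : ℤ) * (rows.getD i []).getD ((5 : Fin 6) : ℕ) 0 =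
    n 0 + 3 * n 1 + 6 * n 2 - n 3 + 4 * n 4 + 10 * n 5 - 11 * n 6 + 11 * n 7 + 9 * n 8 -
      6 * n 10 - 2 * n 11 + 14 * n 12 + 8 * n 13 := by
  rw [sum14]
  change (n 0 : ℤ) * 1 + n 1 * 3 + n 2 * 6 + n 3 * (-1) + n 4 * 4 + n 5 * 10 + n 6 * (-11) + n 7 * 11 + n 8 * 9 +
    n 9 * 0 + n 10 * (-6) + n 11 * (-2) + n 12 * 14 + n 13 * 8 = _
  ring

/-- the solutions -/
theorem solve {d : ℕ} {n0 n1 n2 n3 n4 n5 n6 n7 n8 n9 n10 n11 n12 n13 : ℕ} (h770 : d ≤ 770)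
    (f0 : (d : ℤ) = n0 + 11 * n1 + 54 * n2 + 55 * n3 + 132 * n4 + 154 * n5 + 165 * n6 + 275 * n7 + 297 * n8 +
      320 * n9 + 330 * n10 + 462 * n11 + 462 * n12 + 616 * n13)
    (f1 : (0 : ℤ) = 9 * n1 + 27 * n2 + 27 * n3 + 45 * n5 + 54 * n6 + 54 * n7 + 27 * n8 + 108 * n9 +
      81 * n10 - 54 * n11 + 81 * n12 + 108 * n13)
    (f2 : (0 : ℤ) = 8 * n1 + 16 * n2 + 24 * n3 + 48 * n5 + 16 * n6 + 40 * n7 + 64 * n8 + 64 * n9 -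
      16 * n10 - 16 * n11 - 32 * n12 + 32 * n13) :
    (n1 = 0 ∧ n2 = 0 ∧ n3 = 0 ∧ n5 = 0 ∧ n7 = 0 ∧ n8 = 0 ∧ n9 = 0 ∧ n10 = 0 ∧ n12 = 0 ∧ n13 = 0) ∧
      ((n6 = 0 ∧ n11 = 0) ∨ (n6 = 1 ∧ n11 = 1)) := by
  have g0 : d = n0 + 11 * n1 + 54 * n2 + 55 * n3 + 132 * n4 + 154 * n5 + 165 * n6 + 275 * n7 + 297 * n8 +
      320 * n9 + 330 * n10 + 462 * n11 + 462 * n12 + 616 * n13 := by exact_mod_cast f0
  have g1 : 54 * n11 = 9 * n1 + 27 * n2 + 27 * n3 + 45 * n5 + 54 * n6 + 54 * n7 + 27 * n8 + 108 * n9 +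
      81 * n10 + 81 * n12 + 108 * n13 := by
    zify
    linarith
  have g2 : 16 * n10 + 16 * n11 + 32 * n12 = 8 * n1 + 16 * n2 + 24 * n3 + 48 * n5 + 16 * n6 + 40 * n7 + 64 * n8 +
      64 * n9 + 32 * n13 := by
    zify
    linarith
  clear f0 f1 f2
  have h11 : n11 < 2 := by linarith
  rcases (show n11 = 0 ∨ n11 = 1 by clear g0 g1 g2; omega) with h11' | h11'
  · subst h11'
    clear g2 g0 h11
    simp only [mul_zero] at g1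
    have h := g1.symm
    simp only [Nat.add_eq_zero_iff, mul_eq_zero] at h
    simp at h
    tauto
  · subst h11'
    have h9 : n9 < 1 := by linarith
    have h10 : n10 < 1 := by linarith
    have h12 : n12 < 1 := by linarith
    have h13 : n13 < 1 := by linarith
    rw [Nat.lt_one_iff] at h9 h10 h12 h13
    subst h9 h10 h12 h13
    have h3 : n3 < 1 := by linarith
    have h5 : n5 < 1 := by linarith
    have h7 : n7 < 1 := by linarith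
    have h8 : n8 < 1 := by linarith
    rw [Nat.lt_one_iff] at h3 h5 h7 h8
    subst h3 h5 h7 h8
    clear g0 h11
    simp only [mul_zero, add_zero, zero_add, mul_one] at g1 g2
    refine ⟨⟨?_, ?_, rfl, rfl, rfl, rfl, rfl, rfl, rfl, rfl⟩, Or.inr ⟨?_, rfl⟩⟩ <;> omega

/-- the divisors -/
theorem cases_d {d a b : ℕ} (ha : a ≤ 4) (h770 : d ≤ 770) (hd : d = a + 132 * b ∨ d = 627 + a + 132 * b)
    (h1 : d ≠ 1) (h19 : d % 19 = 0 ∨ d % 19 = 1 ∨ d % 19 = 18 ∨ d % 19 = 9 ∨ d % 19 = 10)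
    (h11 : d % 11 = 0 ∨ d % 11 = 1 ∨ d % 11 = 10) (hN : 273030912000000 % d = 0) :
    d = 133 ∨ d = 760 ∨ (d = 132 ∧ a = 0 ∧ b = 1) ∨ (d = 627 ∧ a = 0 ∧ b = 0 ∧ d = 627 + a + 132 * b) := by
  have hb : b ≤ 5 := by omega
  rcases hd with rfl | rfl <;> interval_cases a <;> interval_cases b <;> simp_all
end Cfsg.Agent.H175.Ore.HNNum
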