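import Cfsg.Agent.H175.Ore.HNFus
import Cfsg.Agent.H175.Ore.HNNum
import Cfsg.Agent.H511.Ore.Deg
import Cfsg.Agent.H511.Ore.Local
import Cfsg.Agent.H775.S4790.Quot
import Cfsg.Agent.H507.Conj.Cc
import Cfsg.Agent.H845.HNNineteen

/-!
# The degrees at most 770 of the Harada-Norton group (helper175)

* `deg_cases` : a nontrivial irreducible character of `HN` has degree 133, 760, or more than 770.
-/

set_option autoImplicit false
set_option maxRecDepth 100000

namespace Cfsg.Agent.H175.Ore.HNDeg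

open Cfsg Subgroup Cfsg.Agent.Characters.Core
open Cfsg.Agent.CpAutHN.Alt Cfsg.Agent.CpAutHN.Pairs Cfsg.Agent.H175.Ore.HNFus Cfsg.Agent.H175.Ore.HNNum
open Cfsg.Agent.H175.Ore.AltRows (x4 x4_mem t6 t6_mem x11 x11_mem exists_comb vA vP)
open Cfsg.Agent.H175.Ore.SymTab (rows)

universe u

/-- the values of a character of degree at most 770 -/
theorem values {χ : Cfsg.Spor.HN → ℂ} (hχ : IsIrrCharacter Cfsg.Spor.HN χ) {d : ℕ} (hd : χ 1 = d) (h770 : d ≤ 770) :
    ∃ a b : ℕ, a ≤ 4 ∧ ((d = a + 132 * b ∧ χ (Φ ⟨t2, t2_mem⟩) = ((a + 20 * b : ℤ) : ℂ) ∧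
        χ (Φ ⟨s1, s1_mem⟩) = ((a + 4 * b : ℤ) : ℂ)) ∨
      (d = 627 + a + 132 * b ∧ χ (Φ ⟨t2, t2_mem⟩) = ((35 + a + 20 * b : ℤ) : ℂ) ∧
        χ (Φ ⟨s1, s1_mem⟩) = ((a + 4 * b - 13 : ℤ) : ℂ))) := by
  have hfin := Cfsg.Agent.H710.Spor.HN.finite_hn
  have hcl : ∀ {g h : Cfsg.Spor.HN}, IsConj g h → χ g = χ h := by
    intro g h H
    obtain ⟨c, rfl⟩ := isConj_iff.1 H
    exact (isIrr_isClassFunction hχ g c).symm
  obtain ⟨n, hn⟩ := exists_comb (θ := χ ∘ Φ) (isCharacter_comp Φ (isIrr_isCharacter hχ)) (d := d)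
    (by rw [Function.comp_apply, map_one, hd]) h770
  have e0 := hn 0
  have e1 := hn 1
  have e2 := hn 2
  have e3 := hn 3
  have e4 := hn 4
  have e5 := hn 5
  rw [col0] at e0
  rw [col1] at e1
  rw [col2] at e2
  rw [col3] at e3
  rw [col4] at e4
  rw [col5] at e5
  clear hn
  change (χ ∘ Φ) 1 = _ at e0
  change (χ ∘ Φ) ⟨x1, x1_mem⟩ - (χ ∘ Φ) ⟨x4, x4_mem⟩ = _ at e1
  change (χ ∘ Φ) ⟨t2, t2_mem⟩ - (χ ∘ Φ) ⟨t6, t6_mem⟩ = _ at e2
  change (χ ∘ Φ) ⟨x11, x11_mem⟩ = _ at e3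
  change (χ ∘ Φ) ⟨t2, t2_mem⟩ = _ at e4
  change (χ ∘ Φ) ⟨s1, s1_mem⟩ = _ at e5
  rw [Function.comp_apply] at e0 e3 e4 e5
  rw [Function.comp_apply, Function.comp_apply] at e1 e2
  rw [map_one, hd] at e0
  rw [hcl conj_three, sub_self] at e1
  rw [hcl conj_two, sub_self] at e2
  have f0 := (Int.cast_inj (α := ℂ)).1 ((Int.cast_natCast d).trans e0)
  have f1 := (Int.cast_inj (α := ℂ)).1 (Int.cast_zero.trans e1)
  have f2 := (Int.cast_inj (α := ℂ)).1 (Int.cast_zero.trans e2)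
  clear e0 e1 e2
  obtain ⟨⟨h1, h2, h3, h5, h7, h8, h9, h10, h12, h13⟩, h⟩ := solve h770 f0 f1 f2
  have hx : Complex.normSq (χ (Φ ⟨x11, x11_mem⟩)) ≤ 22 := by
    have h1 := Cfsg.Agent.H507.Conj.normSq_le_card hχ (Φ ⟨x11, x11_mem⟩)
    rw [card_cent order_x11] at h1
    exact_mod_cast h1
  rw [h1, h2, h3, h5, h7, h8, h9, h10, h12, h13] at f0 e4
  rw [h1, h2, h3, h5, h7, h8, h10, h12, h13] at e5
  rw [h2, h9] at e3
  have h4 : n 0 ≤ 4 := by
    rw [e3, Complex.normSq_intCast] at hx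
    have h5 : ((n 0 : ℤ) - ((0 : ℕ) : ℤ) + ((0 : ℕ) : ℤ)) * ((n 0 : ℤ) - ((0 : ℕ) : ℤ) + ((0 : ℕ) : ℤ)) ≤ 22 := by
      exact_mod_cast hx
    simp only [Nat.cast_zero, sub_zero, add_zero] at h5
    have h6 : n 0 * n 0 ≤ 22 := by exact_mod_cast h5
    nlinarith
  refine ⟨n 0, n 4, h4, ?_⟩
  rcases h with ⟨h6, h11⟩ | ⟨h6, h11⟩
  · left
    rw [h6, h11] at f0 e4 e5
    refine ⟨?_, ?_, ?_⟩
    · have : (d : ℤ) = n 0 + 132 * n 4 := by rw [f0]; push_cast; ring
      exact_mod_cast this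
    · rw [e4]; push_cast; ring
    · rw [e5]; push_cast; ring
  · right
    rw [h6, h11] at f0 e4 e5
    refine ⟨?_, ?_, ?_⟩
    · have : (d : ℤ) = 627 + n 0 + 132 * n 4 := by rw [f0]; push_cast; ring
      exact_mod_cast this
    · rw [e4]; push_cast; ring
    · rw [e5]; push_cast; ring

/-! ### Characters of degree divisible by 11 -/

theorem card_hn : Nat.card Cfsg.Spor.HN = 273030912000000 := Cfsg.Agent.H710.Spor.HN.card_hn

/-- the value of a character of 11-defect zero at an involution of the centralizer of an element of order 11 -/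
theorem eleven (χ : IrrCharacter Cfsg.Spor.HN) (h11 : 11 ∣ charDegree (χ : Cfsg.Spor.HN → ℂ)) :
    ∃ t : Cfsg.Spor.HN, orderOf t = 2 ∧ IsIntegral ℤ ((11 : ℂ)⁻¹ * (χ : Cfsg.Spor.HN → ℂ) t) := by
  have hfin := Cfsg.Agent.H710.Spor.HN.finite_hn
  have : Fact (Nat.Prime 2) := ⟨Nat.prime_two⟩
  have hx := order_x11
  set x : Cfsg.Spor.HN := Φ ⟨x11, x11_mem⟩ with hxdef
  obtain ⟨t, ht⟩ := exists_prime_orderOf_dvd_card' (G := centralizer ({x} : Set Cfsg.Spor.HN)) 2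
    (by rw [card_cent hx]; norm_num)
  have ht' : orderOf (t : Cfsg.Spor.HN) = 2 := by rw [Subgroup.orderOf_coe, ht]
  have hc : Commute (t : Cfsg.Spor.HN) x := mem_centralizer_singleton_iff.1 t.2
  refine ⟨t, ht', ?_⟩
  have hft := Fintype.ofFinite (zpowers x)
  have h1 := Cfsg.Agent.H775.S4790.isIntegral_avg (zpowers x).subtype (y := (t : Cfsg.Spor.HN)) (r := 2) (by norm_num)
    (by rw [← ht', pow_orderOf_eq_one]) (fun q => by
      obtain ⟨k, hk⟩ := mem_zpowers_iff.1 q.2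
      change Commute (t : Cfsg.Spor.HN) (q : Cfsg.Spor.HN)
      rw [← hk]
      exact hc.zpow_right k) (isIrr_isCharacter χ.2)
  rw [Nat.card_zpowers, hx, Finset.sum_eq_single 1] at h1
  · rw [map_one, mul_one] at h1
    exact h1
  · intro q _ hq
    refine Cfsg.Agent.H511.Ore.vanish_of_dvd (p := 11) (n := 1) (by norm_num) (by rw [card_hn]; norm_num)
      (by rw [card_hn]; norm_num) (by rwa [pow_one]) ?_
    obtain ⟨k, hk⟩ := mem_zpowers_iff.1 q.2
    have hcq : Commute (t : Cfsg.Spor.HN) (q : Cfsg.Spor.HN) := by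
      rw [← hk]
      exact hc.zpow_right k
    have hq11 : orderOf (q : Cfsg.Spor.HN) = 11 := by
      have h2 : orderOf (q : Cfsg.Spor.HN) ∣ 11 := by
        have h3 : orderOf q ∣ Nat.card (zpowers x) := _root_.orderOf_dvd_natCard q
        rw [Nat.card_zpowers, hx] at h3
        rwa [Subgroup.orderOf_coe]
      rcases (Nat.dvd_prime (by norm_num)).1 h2 with h3 | h3
      · exfalso
        rw [Subgroup.orderOf_coe, orderOf_eq_one_iff] at h3
        exact hq h3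
      · exact h3
    change 11 ∣ orderOf ((t : Cfsg.Spor.HN) * (q : Cfsg.Spor.HN))
    rw [hcq.orderOf_mul_eq_mul_orderOf_of_coprime (by rw [ht', hq11]; norm_num), ht', hq11]
    norm_num
  · intro h
    exact absurd (Finset.mem_univ _) h

/-- an integer divided by 11 -/
theorem dvd_of_isIntegral {m : ℤ} (h : IsIntegral ℤ ((11 : ℂ)⁻¹ * (m : ℂ))) : (11 : ℤ) ∣ m := by
  have h1 : IsIntegral ℤ ((m / 11 : ℚ)) := by
    have h2 : (algebraMap ℚ ℂ) (m / 11 : ℚ) = (11 : ℂ)⁻¹ * (m : ℂ) := by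
      rw [map_div₀, map_intCast, map_ofNat, mul_comm, div_eq_mul_inv]
    rw [← h2] at h
    exact (isIntegral_algebraMap_iff (algebraMap ℚ ℂ).injective).1 h
  obtain ⟨k, hk⟩ := IsIntegrallyClosed.isIntegral_iff.1 h1
  refine ⟨k, ?_⟩
  have h3 : ((k : ℤ) : ℚ) = (m : ℚ) / 11 := by rw [← hk]; rfl
  have h4 : (m : ℚ) = 11 * k := by rw [h3]; ring
  exact_mod_cast h4

/-- the data for the primes 19 and 11 -/
def cd : List Cfsg.Agent.H651.Two.CD :=
  [⟨19, 1, 9, 2, [(0, 0), (1, 2), (18, -2), (9, -1), (10, 1)], 0, false⟩,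
    ⟨11, 2, 10, 1, [(0, 0), (1, 1), (10, -1)], 0, false⟩]

theorem cd_ok : (cd.all (Cfsg.Agent.H651.Two.CD.ok 273030912000000)) = true := by decide +kernel

theorem cd_has : ∀ d ∈ cd, d.Has Cfsg.Spor.HN := by
  have hfin := Cfsg.Agent.H710.Spor.HN.finite_hn
  intro d hd
  simp only [cd, List.mem_cons, List.not_mem_nil, or_false] at hd
  rcases hd with rfl | rfl
  · refine ⟨by norm_num, ?_⟩
    obtain ⟨x, hx, hc⟩ := Cfsg.Agent.H845.HNNineteen.hn_nineteen
    exact ⟨x, hx, hc⟩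
  · exact ⟨by norm_num, Φ ⟨x11, x11_mem⟩, order_x11, card_cent order_x11⟩

theorem not_comm : ¬ IsMulCommutative Cfsg.Spor.HN := by
  intro h
  have h1 : Nat.card (centralizer ({Φ ⟨x11, x11_mem⟩} : Set Cfsg.Spor.HN)) = Nat.card Cfsg.Spor.HN := by
    have h2 : centralizer ({Φ ⟨x11, x11_mem⟩} : Set Cfsg.Spor.HN) = ⊤ := by
      rw [eq_top_iff]
      intro g _
      rw [mem_centralizer_singleton_iff]
      exact mul_comm' _ _
    rw [h2, card_top]
  rw [card_cent order_x11, card_hn] at h1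
  norm_num at h1

/-- **The degrees at most 770 of `HN`.** -/
theorem deg_cases {χ : IrrCharacter Cfsg.Spor.HN} (h1 : (χ : Cfsg.Spor.HN → ℂ) ≠ 1) :
    charDegree (χ : Cfsg.Spor.HN → ℂ) = 133 ∨ charDegree (χ : Cfsg.Spor.HN → ℂ) = 760 ∨
      770 < charDegree (χ : Cfsg.Spor.HN → ℂ) := by
  have hfin := Cfsg.Agent.H710.Spor.HN.finite_hn
  by_cases h770 : 770 < charDegree (χ : Cfsg.Spor.HN → ℂ)
  · exact Or.inr (Or.inr h770)
  rw [not_lt] at h770
  set d := charDegree (χ : Cfsg.Spor.HN → ℂ) with hd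
  have hd1 : (χ : Cfsg.Spor.HN → ℂ) 1 = d := by
    obtain ⟨k, -, hk⟩ := isIrr_apply_one χ.2
    rw [hd, Blocks.Basic.charDegree_of_eq hk, hk]
  have hdvd := Cfsg.Agent.H511.Ore.charDegree_dvd χ
  rw [card_hn, ← hd] at hdvd
  have hd2 := Cfsg.Agent.H511.Ore.two_le_charDegree not_comm χ h1
  have r19 := Cfsg.Agent.H511.Ore.res_of_has not_comm card_hn (cd_has _ List.mem_cons_self)
    (List.all_eq_true.1 cd_ok _ List.mem_cons_self) χ
  have r11 := Cfsg.Agent.H511.Ore.res_of_has not_comm card_hn (cd_has _ (List.mem_cons_of_mem _ List.mem_cons_self))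
    (List.all_eq_true.1 cd_ok _ (List.mem_cons_of_mem _ List.mem_cons_self)) χ
  rw [← hd] at hd2 r19 r11
  simp only [List.any_cons, List.any_nil, Bool.or_eq_true, Bool.or_false] at r19 r11
  have hb : ∀ {a b : ℕ}, Nat.beq a b = true → a = b := Nat.eq_of_beq_eq_true
  obtain ⟨a, b, ha, h⟩ := values χ.2 hd1 h770
  have hcase := cases_d ha h770 (h.imp (fun h => h.1) fun h => h.1) (by omega)
    (r19.imp hb (Or.imp hb (Or.imp hb (Or.imp hb hb)))) (r11.imp hb (Or.imp hb hb))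
    (Nat.mod_eq_zero_of_dvd hdvd)
  rcases hcase with h2 | h2 | h2 | h2
  · exact Or.inl h2
  · exact Or.inr (Or.inl h2)
  all_goals
    exfalso
    obtain ⟨t, ht, hint⟩ := eleven χ (by rw [← hd, h2.1]; norm_num)
    have hv : ∃ m : ℤ, (χ : Cfsg.Spor.HN → ℂ) t = m ∧ ¬ (11 : ℤ) ∣ m := by
      have hcl : ∀ {g h : Cfsg.Spor.HN}, IsConj g h → (χ : Cfsg.Spor.HN → ℂ) g = (χ : Cfsg.Spor.HN → ℂ) h := by
        intro g h H
        obtain ⟨c, rfl⟩ := isConj_iff.1 H
        exact (isIrr_isClassFunction χ.2 g c).symm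
      rcases inv_cases ht with hc | hc
      · rcases h with ⟨h5, h6, h7⟩ | ⟨h5, h6, h7⟩
        · exact ⟨_, (hcl hc).trans h6, by omega⟩
        · exact ⟨_, (hcl hc).trans h6, by omega⟩
      · rcases h with ⟨h5, h6, h7⟩ | ⟨h5, h6, h7⟩
        · exact ⟨_, (hcl hc).trans h7, by omega⟩
        · exact ⟨_, (hcl hc).trans h7, by omega⟩
    obtain ⟨m, hm, hm'⟩ := hv
    rw [hm] at hint
    exact hm' (dvd_of_isIntegral hint)

/-- **The degrees at most 770 of a group isomorphic to `HN`.** -/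
theorem deg_cases_iso {S : Type u} [Group S] (h : Spor.IsoHN S) {χ : IrrCharacter S} (h1 : (χ : S → ℂ) ≠ 1) :
    charDegree (χ : S → ℂ) = 133 ∨ charDegree (χ : S → ℂ) = 760 ∨ 770 < charDegree (χ : S → ℂ) := by
  obtain ⟨e⟩ := h
  have hirr : IsIrrCharacter Cfsg.Spor.HN ((χ : S → ℂ) ∘ e.symm.toMonoidHom) :=
    isIrr_comp e.symm.toMonoidHom e.symm.surjective χ.2
  have h2 : (((⟨_, hirr⟩ : IrrCharacter Cfsg.Spor.HN) : Cfsg.Spor.HN → ℂ)) ≠ 1 := by
    intro h2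
    apply h1
    funext s
    have h3 := congrFun h2 (e s)
    change (χ : S → ℂ) (e.symm (e s)) = 1 at h3
    rw [e.symm_apply_apply] at h3
    exact h3
  have h3 := deg_cases h2
  have h4 : charDegree (((⟨_, hirr⟩ : IrrCharacter Cfsg.Spor.HN) : Cfsg.Spor.HN → ℂ)) = charDegree (χ : S → ℂ) := by
    obtain ⟨k, -, hk⟩ := isIrr_apply_one χ.2
    rw [Blocks.Basic.charDegree_of_eq hk]
    apply Blocks.Basic.charDegree_of_eq
    change (χ : S → ℂ) (e.symm 1) = k
    rw [map_one, hk]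
  rw [h4] at h3
  exact h3

/-- the divisors which are excluded -/
def ex : List ℕ := [10, 56, 66, 77, 132, 210, 275, 352, 495, 550, 560, 693, 704, 770]

/-- **The degrees prime to 19 of a group isomorphic to `HN`.** -/
theorem degOff_HN {S : Type u} [Group S] [Finite S] (h : Spor.IsoHN S) : Cfsg.Agent.H511.Ore.DegOff S 19 1188 := by
  obtain ⟨e⟩ := h
  have hs : IsSimpleGroup S := by
    have := Cfsg.Agent.H710.Spor.HN.isSimple_hn
    exact e.isSimpleGroup
  have hG : ¬ IsMulCommutative S := by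
    intro hc
    refine not_comm ⟨⟨fun a b => ?_⟩⟩
    obtain ⟨a, rfl⟩ := e.surjective a
    obtain ⟨b, rfl⟩ := e.surjective b
    rw [← map_mul, ← map_mul, mul_comm' a b]
  have hcd : ∀ d ∈ cd, d.Has S := by
    intro d hd
    obtain ⟨hp, x, hx, hc⟩ := cd_has d hd
    refine ⟨hp, e.symm x, by rw [MulEquiv.orderOf_eq, hx], ?_⟩
    rw [← hc]
    refine Nat.card_congr ⟨fun g => ⟨e g, ?_⟩, fun g => ⟨e.symm g, ?_⟩, fun g => ?_, fun g => ?_⟩
    · have := mem_centralizer_singleton_iff.1 g.2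
      rw [mem_centralizer_singleton_iff]
      have h2 := congrArg e this
      rwa [map_mul, map_mul, e.apply_symm_apply] at h2
    · have := mem_centralizer_singleton_iff.1 g.2
      rw [mem_centralizer_singleton_iff, ← map_mul, ← map_mul, this]
    · exact Subtype.ext (e.symm_apply_apply _)
    · exact Subtype.ext (e.apply_symm_apply _)
  refine Cfsg.Agent.H511.Ore.degOff_of_check (m := 1) (ex := ex) hG 273030912000000
    (by rw [Nat.card_congr e.toEquiv, card_hn]) [(2, 14), (3, 6), (5, 6), (7, 1), (11, 1), (19, 1)] (by decide +kernel)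
    (by decide +kernel) cd cd_ok hcd ?_ ?_ (by decide +kernel)
  · intro χ _
    obtain ⟨k, hk, hk'⟩ := isIrr_apply_one χ.2
    rw [Blocks.Basic.charDegree_of_eq hk']
    exact hk
  · intro χ hχ
    by_cases h1 : (χ : S → ℂ) = 1
    · rw [h1] at hχ
      have h2 : charDegree (1 : S → ℂ) = 1 := Blocks.Basic.charDegree_of_eq (by simp)
      rw [h2] at hχ
      revert hχ
      decide
    · rcases deg_cases_iso ⟨e⟩ h1 with h2 | h2 | h2
      · rw [h2] at hχ; revert hχ; decide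
      · rw [h2] at hχ; revert hχ; decide
      · have h3 : ∀ d ∈ ex, d ≤ 770 := by decide
        exact absurd (h3 _ hχ) (not_le.2 h2)

/-- the form for the Ore sieve -/
theorem deg_HN {S : Type u} [Group S] [Finite S] (h : Spor.IsoHN S) (χ : IrrCharacter S) (h1 : (χ : S → ℂ) ≠ 1) :
    (charDegree (χ : S → ℂ) % 19 = 1 ∨ charDegree (χ : S → ℂ) % 19 = 18 → 495 ≤ charDegree (χ : S → ℂ)) ∧
      (charDegree (χ : S → ℂ) % 19 = 9 ∨ charDegree (χ : S → ℂ) % 19 = 10 → 693 ≤ charDegree (χ : S → ℂ)) := by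
  rcases deg_cases_iso h h1 with h2 | h2 | h2 <;> omega

/-- the degrees prime to 11 -/
theorem deg_HN_eleven {S : Type u} [Group S] (h : Spor.IsoHN S) (χ : IrrCharacter S) (h1 : (χ : S → ℂ) ≠ 1) :
    charDegree (χ : S → ℂ) = 133 ∨ 760 ≤ charDegree (χ : S → ℂ) := by
  rcases deg_cases_iso h h1 with h2 | h2 | h2 <;> omega

end Cfsg.Agent.H175.Ore.HNDeg
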