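import Cfsg.Agent.H175.Ore.SymRows
import Cfsg.Agent.H614.IndexTwo
import Cfsg.Agent.CharDeep.PowerDegrees
import Cfsg.Agent.CpAutHN.Pairs

/-!
# The characters of degree at most 770 of the alternating group of degree 12 (helper175)

* `exists_row` : values of an irreducible character of degree at most 770;
* `exists_comb` : decomposition of a character of degree at most 770.
-/

set_option autoImplicit false

namespace Cfsg.Agent.H175.Ore.AltRows

open Finset Cfsg Cfsg.Agent.H614 Cfsg.Agent.H175.Ore.SymTab Cfsg.Agent.Characters.Core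
open Cfsg.Agent.CpAutHN.Alt (A12 cy x1 x1_mem t2 t2_mem s1 s1_mem)
open Equiv.Perm (mem_alternatingGroup)

/-- cycle type `3 ^ 4` -/
def x4 : Equiv.Perm (Fin 12) := cy [0, 1, 2] * cy [3, 4, 5] * cy [6, 7, 8] * cy [9, 10, 11]
/-- cycle type `2 ^ 6` -/
def t6 : Equiv.Perm (Fin 12) := cy [0, 1] * cy [2, 3] * cy [4, 5] * cy [6, 7] * cy [8, 9] * cy [10, 11]
/-- cycle type `11` -/
def x11 : Equiv.Perm (Fin 12) := cy [0, 1, 2, 3, 4, 5, 6, 7, 8, 9, 10]
/-- a transposition -/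
def g2 : Equiv.Perm (Fin 12) := cy [0, 1]

theorem x4_mem : x4 ∈ alternatingGroup (Fin 12) := by rw [mem_alternatingGroup]; decide +kernel
theorem t6_mem : t6 ∈ alternatingGroup (Fin 12) := by rw [mem_alternatingGroup]; decide +kernel
theorem x11_mem : x11 ∈ alternatingGroup (Fin 12) := by rw [mem_alternatingGroup]; decide +kernel
theorem g2_not_mem : g2 ∉ alternatingGroup (Fin 12) := by rw [mem_alternatingGroup]; decide +kernel

/-- the cycle lengths of a permutation of prime order -/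
theorem ty_of_prime {p : ℕ} (hp : p.Prime) {g : Equiv.Perm (Fin 12)} (h : g ^ p = 1) {k : ℕ}
    (hk : g.support.card = p * k) :
    ty g = ((List.replicate k p ++ List.replicate (12 - p * k) 1 : List ℕ) : Multiset ℕ) := by
  have h1 : ∀ b ∈ g.cycleType, b = p := by
    intro b hb
    have h2 := (Equiv.Perm.dvd_of_mem_cycleType hb).trans (orderOf_dvd_of_pow_eq_one h)
    have h3 := Equiv.Perm.two_le_of_mem_cycleType hb
    rcases (Nat.dvd_prime hp).1 h2 with h4 | h4 <;> omega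
  have h2 := Multiset.eq_replicate_card.2 h1
  have h3 := g.sum_cycleType
  rw [h2, Multiset.sum_replicate, smul_eq_mul, hk, mul_comm] at h3
  have h4 : g.cycleType.card = k := Nat.eq_of_mul_eq_mul_left hp.pos h3
  rw [h4] at h2
  rw [ty_eq, h2, Multiset.sum_replicate, smul_eq_mul, mul_comm k p, Fintype.card_fin]
  rfl

theorem ty_g2 : ty g2 = (([2] ++ List.replicate 10 1 : List ℕ) : Multiset ℕ) :=
  ty_of_prime (p := 2) (k := 1) Nat.prime_two (by decide +kernel) (by decide +kernel)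
theorem ty_x1 : ty x1 = (([3] ++ List.replicate 9 1 : List ℕ) : Multiset ℕ) :=
  ty_of_prime (p := 3) (k := 1) Nat.prime_three (by decide +kernel) (by decide +kernel)
theorem ty_x4 : ty x4 = (([3, 3, 3, 3] ++ List.replicate 0 1 : List ℕ) : Multiset ℕ) :=
  ty_of_prime (p := 3) (k := 4) Nat.prime_three (by decide +kernel) (by decide +kernel)
theorem ty_t2 : ty t2 = (([2, 2] ++ List.replicate 8 1 : List ℕ) : Multiset ℕ) :=
  ty_of_prime (p := 2) (k := 2) Nat.prime_two (by decide +kernel) (by decide +kernel)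
theorem ty_t6 : ty t6 = (([2, 2, 2, 2, 2, 2] ++ List.replicate 0 1 : List ℕ) : Multiset ℕ) :=
  ty_of_prime (p := 2) (k := 6) Nat.prime_two (by decide +kernel) (by decide +kernel)
theorem ty_s1 : ty s1 = (([2, 2, 2, 2] ++ List.replicate 4 1 : List ℕ) : Multiset ℕ) :=
  ty_of_prime (p := 2) (k := 4) Nat.prime_two (by decide +kernel) (by decide +kernel)
theorem ty_x11 : ty x11 = (([11] ++ List.replicate 1 1 : List ℕ) : Multiset ℕ) :=
  ty_of_prime (p := 11) (k := 1) (by norm_num) (by decide +kernel) (by decide +kernel)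
theorem ty_one' : ty (1 : Equiv.Perm (Fin 12)) = (([] ++ List.replicate 12 1 : List ℕ) : Multiset ℕ) := by
  rw [ty_one, Fintype.card_fin]; rfl

theorem ch_val {β : Fin 12 → ℕ} {g : Equiv.Perm (Fin 12)} {ν : List ℕ} {k : ℕ} (hg : ty g = ((ν ++ List.replicate k 1 : List ℕ) : Multiset ℕ))
    (hν : ∀ r ∈ ν, 0 < r) (hs : ∑ i, β i = ν.sum + k + ∑ i : Fin 12, (i : ℕ)) :
    ch (Fin 12) β g = ((ev 12 ν k (List.ofFn β) : ℤ) : ℂ) := by
  rw [ch_apply, hg, FM_coe, F_eq_ev ν hν k β hs]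

theorem sum12 : ∑ i : Fin 12, (i : ℕ) = 66 := by decide

/-- the values -/
def vP {G : Type*} [One G] (x1 x4 t2 t6 x11 s1 : G) (f : G → ℂ) : List ℂ :=
  [f 1, f x1 - f x4, f t2 - f t6, f x11, f t2, f s1]

/-- **The characters of small degree of the symmetric group of degree 12.** -/
theorem sym_cases {ψ : Equiv.Perm (Fin 12) → ℂ} (hψ : IsIrrCharacter (Equiv.Perm (Fin 12)) ψ) :
    (∃ z : ℤ, 1540 < z ∧ ψ 1 = z) ∨ (ψ g2 ≠ 0 ∧ ((∃ z : ℤ, 770 < z ∧ ψ 1 = z) ∨
      ∃ v ∈ rows, vP x1 x4 t2 t6 x11 s1 ψ = v.map (Int.cast))) := by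
  obtain ⟨β, hβ, hs, rfl⟩ := irr_eq (m := 12) (by rw [Fintype.card_fin]) hψ
  rw [Fintype.card_fin, sum12] at hs
  have h := of_en en_chk hβ hs
  have e1 := ch_val (β := β) ty_one' (by decide) (by rw [hs, sum12]; rfl)
  have e2 := ch_val (β := β) ty_g2 (by decide) (by rw [hs, sum12]; rfl)
  have e3 := ch_val (β := β) ty_x1 (by decide) (by rw [hs, sum12]; rfl)
  have e4 := ch_val (β := β) ty_x4 (by decide) (by rw [hs, sum12]; rfl)
  have e5 := ch_val (β := β) ty_t2 (by decide) (by rw [hs, sum12]; rfl)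
  have e6 := ch_val (β := β) ty_t6 (by decide) (by rw [hs, sum12]; rfl)
  have e7 := ch_val (β := β) ty_x11 (by decide) (by rw [hs, sum12]; rfl)
  have e8 := ch_val (β := β) ty_s1 (by decide) (by rw [hs, sum12]; rfl)
  rw [chk, Bool.or_eq_true, Bool.and_eq_true, Bool.or_eq_true, decide_eq_true_eq, decide_eq_true_eq,
    decide_eq_true_eq, decide_eq_true_eq] at h
  rcases h with h | ⟨h, h' | h'⟩
  · exact Or.inl ⟨_, h, e1⟩
  · refine Or.inr ⟨?_, Or.inl ⟨_, h', e1⟩⟩
    rw [e2]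
    exact_mod_cast h
  · refine Or.inr ⟨?_, Or.inr ⟨_, h', ?_⟩⟩
    · rw [e2]
      exact_mod_cast h
    · rw [vP, e1, e3, e4, e5, e6, e7, e8, vec]
      simp

/-- the value functions on the alternating group -/
def vA (f : A12 → ℂ) : List ℂ :=
  vP ⟨x1, x1_mem⟩ ⟨x4, x4_mem⟩ ⟨t2, t2_mem⟩ ⟨t6, t6_mem⟩ ⟨x11, x11_mem⟩ ⟨s1, s1_mem⟩ f

/-- **The characters of degree at most 770 of the alternating group of degree 12.** -/
theorem exists_row {φ : A12 → ℂ} (hφ : IsIrrCharacter A12 φ) {e : ℕ} (he : φ 1 = e) (h770 : e ≤ 770) :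
    ∃ v ∈ rows, vA φ = v.map (Int.cast) := by
  classical
  have hnt : Nontrivial (Fin 12) := Fin.nontrivial_iff_two_le.2 (by norm_num)
  obtain ⟨ψ, hψ, hne⟩ := Cfsg.Agent.CharDeep.PowerDegrees.exists_irr_over (alternatingGroup (Fin 12)) hφ
  rcases restrict_two (alternatingGroup (Fin 12)) alternatingGroup.index_eq_two hψ hφ hne with h | ⟨h, hv⟩
  · have h1 : ψ 1 = e := by
      have := h 1
      rw [OneMemClass.coe_one] at this
      rw [this, he]
    rcases sym_cases hψ with ⟨z, hz, hz1⟩ | ⟨-, ⟨z, hz, hz1⟩ | ⟨v, hv, hv1⟩⟩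
    · exfalso
      rw [h1] at hz1
      have : (e : ℤ) = z := by exact_mod_cast hz1
      omega
    · exfalso
      rw [h1] at hz1
      have : (e : ℤ) = z := by exact_mod_cast hz1
      omega
    · refine ⟨v, hv, ?_⟩
      rw [← hv1, vA, vP, vP, ← h 1, ← h ⟨x1, x1_mem⟩, ← h ⟨x4, x4_mem⟩, ← h ⟨t2, t2_mem⟩, ← h ⟨t6, t6_mem⟩,
        ← h ⟨x11, x11_mem⟩, ← h ⟨s1, s1_mem⟩]
      rfl
  · exfalso
    rcases sym_cases hψ with ⟨z, hz, hz1⟩ | ⟨h2, -⟩
    · rw [h, he] at hz1
      have : (2 * e : ℤ) = z := by exact_mod_cast hz1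
      omega
    · exact h2 (hv g2 g2_not_mem)

/-- decomposition of a character with few types of constituents -/
theorem comb_of {G : Type*} [Group G] [Finite G] {θ : G → ℂ} (hθ : IsCharacter G θ) {d : ℕ} (hd : θ 1 = d)
    {ι J : Type*} [Fintype ι] [DecidableEq ι] [Inhabited ι] (L : J → (G → ℂ) →+ ℂ) (R : ι → J → ℂ)
    (h : ∀ φ : G → ℂ, IsIrrCharacter G φ → ∀ e : ℕ, φ 1 = e → e ≤ d → ∃ i, ∀ j, L j φ = R i j) :
    ∃ n : ι → ℕ, ∀ j, L j θ = ∑ i, (n i : ℂ) * R i j := by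
  classical
  have := finite_irr (G := G)
  have := Fintype.ofFinite (IrrCharacter G)
  obtain ⟨m, rfl⟩ := exists_nat_comb hθ
  have hdeg : ∀ φ : IrrCharacter G, ∃ e : ℕ, (φ : G → ℂ) 1 = e := fun φ => by
    obtain ⟨e, -, he⟩ := isIrr_apply_one φ.2
    exact ⟨e, he⟩
  choose e he using hdeg
  have hsum : ∑ φ : IrrCharacter G, m φ * e φ = d := by
    have h1 : ((∑ φ : IrrCharacter G, m φ * e φ : ℕ) : ℂ) = d := by
      rw [← hd, Finset.sum_apply]
      push_cast
      refine Finset.sum_congr rfl fun φ _ => ?_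
      rw [Pi.smul_apply, he, nsmul_eq_mul]
    exact_mod_cast h1
  have hr : ∀ φ : IrrCharacter G, ∃ i : ι, m φ ≠ 0 → ∀ j, L j (φ : G → ℂ) = R i j := by
    intro φ
    by_cases hm : m φ = 0
    · exact ⟨default, fun h => absurd hm h⟩
    · obtain ⟨i, hi⟩ := h φ φ.2 (e φ) (he φ) (by
        rw [← hsum]
        refine le_trans ?_ (Finset.single_le_sum (f := fun φ => m φ * e φ) (fun _ _ => Nat.zero_le _) (Finset.mem_univ φ))
        exact Nat.le_mul_of_pos_left _ (Nat.pos_of_ne_zero hm))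
      exact ⟨i, fun _ => hi⟩
  choose r hr using hr
  refine ⟨fun i => ∑ φ with r φ = i, m φ, fun j => ?_⟩
  rw [map_sum]
  have h1 : ∀ φ : IrrCharacter G, L j (m φ • (φ : G → ℂ)) = (m φ : ℂ) * R (r φ) j := by
    intro φ
    rw [map_nsmul, nsmul_eq_mul]
    by_cases hm : m φ = 0
    · rw [hm, Nat.cast_zero, zero_mul, zero_mul]
    · rw [hr φ hm]
  rw [Finset.sum_congr rfl fun φ _ => h1 φ, ← Finset.sum_fiberwise_of_maps_to (g := r) (t := Finset.univ) (fun _ _ => Finset.mem_univ _)]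
  refine Finset.sum_congr rfl fun i _ => ?_
  rw [Nat.cast_sum, Finset.sum_mul]
  refine Finset.sum_congr rfl fun φ hφ => ?_
  rw [(Finset.mem_filter.1 hφ).2]

/-- the linear forms -/
noncomputable def LA : Fin 6 → (A12 → ℂ) →+ ℂ := fun j =>
  { toFun := fun f => (vA f).getD j 0
    map_zero' := by fin_cases j <;> simp [vA, vP]
    map_add' := fun f g => by fin_cases j <;> simp [vA, vP] <;> ring }

theorem LA_apply (j : Fin 6) (f : A12 → ℂ) : LA j f = (vA f).getD j 0 := rfl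

/-- **Characters of degree at most 770 of the alternating group of degree 12.** -/
theorem exists_comb {θ : A12 → ℂ} (hθ : IsCharacter A12 θ) {d : ℕ} (hd : θ 1 = d) (h770 : d ≤ 770) :
    ∃ n : Fin 14 → ℕ, ∀ j : Fin 6, (vA θ).getD j 0 = (((∑ i, (n i : ℤ) * (rows.getD i []).getD j 0 : ℤ)) : ℂ) := by
  obtain ⟨n, hn⟩ := comb_of hθ hd LA (fun (i : Fin 14) (j : Fin 6) => (((rows.getD i []).getD j 0 : ℤ) : ℂ)) (by
    intro φ hφ e he hed
    obtain ⟨v, hv, hv1⟩ := exists_row hφ he (hed.trans h770)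
    obtain ⟨i, hi, rfl⟩ := List.getElem_of_mem hv
    refine ⟨⟨i, hi⟩, fun j => ?_⟩
    rw [LA_apply, hv1, List.getD_eq_getElem _ _ hi]
    generalize rows[i] = v
    cases h : v[(j : ℕ)]? with
    | none => simp [List.getD_eq_getElem?_getD, h]
    | some a => simp [List.getD_eq_getElem?_getD, h])
  refine ⟨n, fun j => ?_⟩
  rw [← LA_apply, hn j]
  push_cast
  rfl

end Cfsg.Agent.H175.Ore.AltRows
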