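import Cfsg.Agent.H710.Spor.HNMix
import Cfsg.Agent.HN.Distinct

/-!
# The centralizer of an element of order 11 of `HN` (helper175, after helper704)

A copy of the first part of `H704.Spor49.Harada`, with a small closure.
-/

set_option autoImplicit false
set_option maxRecDepth 100000

namespace Cfsg.Agent.H175.Ore.HNEl

open Cfsg Subgroup
open Cfsg.Agent.HN.Pres Cfsg.Agent.HN.H0Basic Cfsg.Agent.H710.Spor.HNMix
open Cfsg.Agent.HN.NormalH (H)
open Cfsg.Agent.HN.DCover (w9)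
open Cfsg.Agent.HN.Index (balance kk)
open Cfsg.Agent.HN.Count (sz pnt)

/-- The lengths of the suborbits are divisible by 11. -/
theorem dvd_sz (i : Fin 9) (hi : i ≠ 0) : 11 ∣ sz H (w9 i) := by
  have hdis := Cfsg.Agent.HN.Distinct.hdis
  have s0 : sz H (w9 0) = 1 := by rw [Cfsg.Agent.HN.Index.w9_zero]; exact Cfsg.Agent.HN.Count.sz_one H
  have s1 : sz H (w9 0) * 1408 = sz H (w9 1) * 1 := balance hdis 0 1
  have s2 : sz H (w9 1) * 50 = sz H (w9 2) * 32 := balance hdis 1 2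
  have s3 : sz H (w9 1) * 450 = sz H (w9 3) * 18 := balance hdis 1 3
  have s4 : sz H (w9 1) * 350 = sz H (w9 4) * 4 := balance hdis 1 4
  have s5 : sz H (w9 1) * 504 = sz H (w9 5) * 2 := balance hdis 1 5
  have s6 : sz H (w9 2) * 672 = sz H (w9 6) * 2 := balance hdis 2 6
  have s7 : sz H (w9 6) * 10 = sz H (w9 7) * 1280 := balance hdis 6 7
  have s8 : sz H (w9 6) * 240 = sz H (w9 8) * 640 := balance hdis 6 8
  fin_cases i
  · exact absurd rfl hi
  · show 11 ∣ sz H (w9 1)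
    omega
  · show 11 ∣ sz H (w9 2)
    omega
  · show 11 ∣ sz H (w9 3)
    omega
  · show 11 ∣ sz H (w9 4)
    omega
  · show 11 ∣ sz H (w9 5)
    omega
  · show 11 ∣ sz H (w9 6)
    omega
  · show 11 ∣ sz H (w9 7)
    omega
  · show 11 ∣ sz H (w9 8)
    omega

theorem card_H : Nat.card H = 177408000 := Cfsg.Agent.HN.Index.card_H

/-- An element of order 11 of `H` is in no other conjugate of `H`. -/
theorem mem_H_of_conj {x g : Cfsg.Spor.HN} (hx : orderOf x = 11) (hxH : x ∈ H) (hg : g⁻¹ * x * g ∈ H) : g ∈ H := by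
  have hfinG := Cfsg.Agent.H710.Spor.HN.finite_hn
  have hfin : Finite H := inferInstance
  obtain ⟨i, hi⟩ := Cfsg.Agent.HN.Index.covers g⁻¹
  have hor := (Cfsg.Agent.HN.Count.mem_orbit_iff' (H := H) g⁻¹ (w9 i)).2 hi
  by_cases h0 : i = 0
  · subst h0
    rw [Cfsg.Agent.HN.Index.w9_zero, DoubleCoset.mem_doubleCoset] at hi
    obtain ⟨a, ha, b, hb, hab⟩ := hi
    have h1 : g⁻¹ ∈ H := by
      rw [hab, mul_one]
      exact H.mul_mem ha hb
    exact inv_mem_iff.1 h1
  · exfalso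
    -- the point is fixed by `x`
    have hd := dvd_sz i h0
    set q : Cfsg.Spor.HN ⧸ H := pnt H g⁻¹ with hq
    have hqo : Nat.card (MulAction.orbit H q) = sz H (w9 i) := by
      rw [sz, MulAction.orbit_eq_iff.2 hor]
    have hst : Nat.card (MulAction.orbit H q) * Nat.card (MulAction.stabilizer H q) = Nat.card H := by
      rw [Nat.card_congr (MulAction.orbitEquivQuotientStabilizer H q)]
      exact (Subgroup.card_eq_card_quotient_mul_card_subgroup _).symm
    have hxs : (⟨x, hxH⟩ : H) ∈ MulAction.stabilizer H q := by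
      rw [MulAction.mem_stabilizer_iff]
      change ((x * (g⁻¹)⁻¹ : Cfsg.Spor.HN) : Cfsg.Spor.HN ⧸ H) = (((g⁻¹)⁻¹ : Cfsg.Spor.HN) : Cfsg.Spor.HN ⧸ H)
      rw [QuotientGroup.eq, inv_inv]
      have h1 : (x * g)⁻¹ * g = (g⁻¹ * x * g)⁻¹ := by group
      rw [h1]
      exact H.inv_mem hg
    have h11 : 11 ∣ Nat.card (MulAction.stabilizer H q) := by
      have h2 : orderOf (⟨⟨x, hxH⟩, hxs⟩ : MulAction.stabilizer H q) = 11 := by
        rw [Subgroup.orderOf_mk, Subgroup.orderOf_mk, hx]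
      rw [← h2]
      exact orderOf_dvd_natCard _
    rw [hqo, card_H] at hst
    obtain ⟨a, ha⟩ := hd
    obtain ⟨b, hb⟩ := h11
    rw [ha, hb] at hst
    have h3 : 121 ∣ 177408000 := ⟨a * b, by rw [← hst]; ring⟩
    revert h3
    norm_num

theorem mem_H_iff {x : Cfsg.Spor.HN} : x ∈ H ↔ ∃ u, ψ u = x := by
  rw [← Cfsg.Agent.HN.NormalH.range_ψ]
  exact Iff.rfl

/-- The centralizer of the element of order 11. -/
theorem card_cent : Nat.card (centralizer ({ψ xx} : Set Cfsg.Spor.HN)) = 2 * 11 := by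
  have hfinG := Cfsg.Agent.H710.Spor.HN.finite_hn
  refine le_antisymm ?_ ?_
  · have hf : ∀ g : centralizer ({ψ xx} : Set Cfsg.Spor.HN), ∃ i : Fin 11 × Bool,
        (g : Cfsg.Spor.HN) = ψ (xx ^ (i.1 : ℕ) * (if i.2 then τ else 1)) := by
      rintro ⟨g, hg⟩
      have hg1 : g * ψ xx = ψ xx * g := mem_centralizer_singleton_iff.1 hg
      have hxH : ψ xx ∈ H := mem_H_iff.2 ⟨_, rfl⟩
      have h2 : g⁻¹ * ψ xx * g = ψ xx := by rw [mul_assoc, ← hg1, inv_mul_cancel_left]
      have h3 := mem_H_of_conj orderOf_ψx hxH (by rw [h2]; exact hxH)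
      obtain ⟨u, rfl⟩ := mem_H_iff.1 h3
      have h4 : u * xx = xx * u := by
        apply ψ_inj
        rw [map_mul, map_mul]
        exact hg1
      obtain ⟨k, hk, h8 | h8⟩ := Cfsg.Agent.H710.Spor.HNCent.mem_of_comm h4
      · exact ⟨(⟨k, hk⟩, false), (congrArg ψ h8).trans (by simp)⟩
      · exact ⟨(⟨k, hk⟩, true), (congrArg ψ h8).trans (by simp)⟩
    choose f hf using hf
    have hinj : Function.Injective f := fun a b hab => Subtype.ext (by rw [hf a, hf b, hab])
    have h := Nat.card_le_card_of_injective f hinj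
    simpa using h
  · refine Nat.le_of_dvd Nat.card_pos ?_
    have ho : orderOf (ψ xx * ψ τ) = 2 * 11 :=
      Cfsg.Agent.H710.TwoP.orderOf_xt (p := 11) (by norm_num) orderOf_ψx orderOf_ψτ comm_xτ
    have hm : ψ xx * ψ τ ∈ centralizer ({ψ xx} : Set Cfsg.Spor.HN) := by
      rw [mem_centralizer_singleton_iff, mul_assoc, comm_xτ.eq]
    rw [← ho, ← Subgroup.orderOf_mk _ hm]
    exact orderOf_dvd_natCard _

end Cfsg.Agent.H175.Ore.HNEl
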