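import Cfsg.Agent.H845.HNTr
import Cfsg.Agent.H175.Ore.AltRows
import Cfsg.Agent.H175.Ore.HNEl
import Cfsg.Agent.H695.Third

/-!
# Fusion of `A12` in `HN` (helper175)

* `conj_three` : a 3-cycle and an element of cycle type `3 ^ 4` are conjugate;
* `conj_two` : elements of cycle types `2 ^ 2`, `2 ^ 6` are conjugate;
* `inv_cases` : every involution is conjugate to one of cycle type `2 ^ 2` or `2 ^ 4`;
* `card_cent` : the centralizer of an element of order 11 has order 22.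
-/

set_option autoImplicit false
set_option maxRecDepth 100000

namespace Cfsg.Agent.H175.Ore.HNFus

open Cfsg.Agent.Lib.PackMat Cfsg.Agent.Lib.PackMatGroup Cfsg.Agent.Lib.PackMatMul Cfsg.Agent.HN.RepData
open Cfsg.Agent.HN.A12Step (L20)
open Cfsg.Agent.HN.Trace
open Cfsg.Agent.CpAutHN.Tr Cfsg.Agent.CpAutHN.Alt Cfsg.Agent.CpAutHN.Pairs
open Cfsg.Agent.KFacts.HN.Classes (inv_class)
open Cfsg.Agent.HN.XWords (W0)
open Cfsg.Agent.HN.H0Basic
open Cfsg.Agent.H175.Ore.AltRows (x4 x4_mem t6 t6_mem x11 x11_mem)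
open Equiv.Perm (mem_alternatingGroup)
open Subgroup

/-- a word for the cycle type `2 ^ 6` -/
def l6 : List ℕ := [5, 2, 8, 1, 4, 3, 8, 1, 6, 0, 7, 2, 6, 9]

theorem ct6 : checkTr C (cw L20 [4, 7, 1, 8, 5, 6, 1, 8, 3, 9, 2, 7, 3, 0]) 0 133 1850 = true := by decide +kernel

theorem tr_l6 : tr (ew l6) = 21 := by
  unfold tr
  rw [rho_ew, show (l6.map fun i => 9 - i) = [4, 7, 1, 8, 5, 6, 1, 8, 3, 9, 2, 7, 3, 0] from rfl,
    trace_of_chunks Cfsg.Agent.HN.Rep.good Cfsg.Agent.HN.Rep.one_lt codes (by decide) [(133, 1850)] (by decide)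
      ⟨ct6, trivial⟩]
  decide

theorem tr_t6 : tr (Φ ⟨t6, t6_mem⟩) = 21 := by
  rw [tr_of (l := l6) (by decide) (g := cy [1, 2] * cy [5, 6, 8] * cy [7, 9, 11, 10])
    t6_mem (by rw [mem_alternatingGroup]; decide +kernel) (by decide +kernel), tr_l6]

theorem tr_x4 : tr (Φ ⟨x4, x4_mem⟩) = 7 := by
  rw [tr_of (l := Cfsg.Agent.H845.HNTr.l4) (by decide) (g := cy [1, 3, 6, 11, 2, 9, 7, 5] * cy [8, 10])
    x4_mem (by rw [mem_alternatingGroup]; decide +kernel) (by decide +kernel), Cfsg.Agent.H845.HNTr.tr_l4]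

/-! ### Involutions -/

theorem conj_S1 : IsConj S1 W0 := isConj_W0_of_tr order_S1 tr_s1

/-- every involution is conjugate to the image of `t2` or `s1` -/
theorem inv_cases {u : Cfsg.Spor.HN} (hu : orderOf u = 2) : IsConj u (Φ ⟨t2, t2_mem⟩) ∨ IsConj u (Φ ⟨s1, s1_mem⟩) := by
  rcases inv_class hu with h | h
  · exact Or.inl (h.trans isConj_tt.symm)
  · exact Or.inr (h.trans conj_S1.symm)

/-- `2 ^ 2` and `2 ^ 6` -/
theorem conj_two : IsConj (Φ ⟨t2, t2_mem⟩) (Φ ⟨t6, t6_mem⟩) := by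
  rcases inv_cases (orderOf_two t6_mem (by decide +kernel) (by decide +kernel)) with h | h
  · exact h.symm
  · exfalso
    have h1 := tr_conj h
    have h2 : tr (Φ ⟨s1, s1_mem⟩) = 5 := tr_s1
    rw [tr_t6, h2] at h1
    exact absurd h1 (by decide)

/-! ### Elements of order 3 -/

/-- commutes with `x4` -/
def u4 : Equiv.Perm (Fin 12) := cy [0, 3] * cy [1, 4] * cy [2, 5] * cy [6, 9] * cy [7, 10] * cy [8, 11]

theorem u4_mem : u4 ∈ alternatingGroup (Fin 12) := by rw [mem_alternatingGroup]; decide +kernel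

/-- `3` and `3 ^ 4` -/
theorem conj_three : IsConj (Φ ⟨x1, x1_mem⟩) (Φ ⟨x4, x4_mem⟩) := by
  have h3 : orderOf (Φ ⟨x4, x4_mem⟩) = 3 := orderOf_three x4_mem (by decide +kernel) (by decide +kernel)
  have h2 : orderOf (Φ ⟨u4, u4_mem⟩) = 2 := orderOf_two u4_mem (by decide +kernel) (by decide +kernel)
  obtain ⟨s, hs, hc⟩ := exists_two h3 h2 (comm_of x4_mem u4_mem (by decide +kernel))
  rcases T1_or_T2 h3 hs hc with h | h
  · exfalso
    obtain ⟨c, hc, -⟩ := t1_x3.conj order_X3 h3 h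
    have h4 := tr_conj (isConj_iff.2 ⟨c, hc⟩)
    have h5 : tr X3 = 29 := tr_x3
    rw [tr_x4, h5] at h4
    exact absurd h4 (by decide)
  · obtain ⟨c, hc, -⟩ := t2_x1.conj order_X1 h3 h
    exact isConj_iff.2 ⟨c, hc⟩

/-! ### Elements of order 11 -/

theorem order_x11 : orderOf (Φ ⟨x11, x11_mem⟩) = 11 := by
  have : Fact (Nat.Prime 11) := ⟨by norm_num⟩
  rw [orderOf_injective Φ Φ_inj]
  apply orderOf_eq_prime
  · apply Subtype.ext
    change x11 ^ 11 = 1
    decide +kernel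
  · intro h
    exact absurd (congrArg Subtype.val h) (by decide +kernel : ¬ x11 = 1)

/-- the centralizer of a power -/
theorem centralizer_pow {G : Type*} [Group G] {x : G} {i : ℕ} (h : Nat.Coprime (orderOf x) i) :
    centralizer ({x ^ i} : Set G) = centralizer ({x} : Set G) := by
  ext g
  rw [mem_centralizer_singleton_iff, mem_centralizer_singleton_iff]
  constructor
  · intro hg
    obtain ⟨j, hj⟩ : ∃ j, (x ^ i) ^ j = x := exists_pow_eq_self_of_coprime h.symm
    have h1 : Commute g ((x ^ i) ^ j) := (show Commute g (x ^ i) from hg).pow_right j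
    rw [hj] at h1
    exact h1
  · intro hg
    exact (show Commute g x from hg).pow_right i

/-- **The centralizer of an element of order 11.** -/
theorem card_cent {y : Cfsg.Spor.HN} (hy : orderOf y = 11) :
    Nat.card (centralizer ({y} : Set Cfsg.Spor.HN)) = 22 := by
  have := Cfsg.Agent.H710.Spor.HN.finite_hn
  obtain ⟨c, i, hc, hi⟩ := Cfsg.Agent.H695.Third.exists_conj_pow Cfsg.Agent.H710.Spor.HNMix.fac11
    Cfsg.Agent.H710.Spor.HNMix.orderOf_ψx hy
  have hco : Nat.Coprime 11 i := (Nat.Prime.coprime_iff_not_dvd (by norm_num)).2 hi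
  rw [card_cent_conj (isConj_iff.2 ⟨c, hc⟩), centralizer_pow (by rw [Cfsg.Agent.H710.Spor.HNMix.orderOf_ψx]; exact hco)]
  exact Cfsg.Agent.H175.Ore.HNEl.card_cent

end Cfsg.Agent.H175.Ore.HNFus
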