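import Cfsg.Agent.H175.Ore.HNNumB
import Cfsg.Agent.H175.Ore.HNFus
import Cfsg.Agent.H507.Conj.Cc

/-!
# `HN` has no irreducible character of degree 1728 (helper175)
-/

set_option autoImplicit false
set_option maxRecDepth 100000

namespace Cfsg.Agent.H175.Ore.HN1728

open Cfsg Subgroup Cfsg.Agent.Characters.Core
open Cfsg.Agent.CpAutHN.Alt Cfsg.Agent.CpAutHN.Pairs Cfsg.Agent.H175.Ore.HNFus Cfsg.Agent.H175.Ore.HNNumB
open Cfsg.Agent.H175.Ore.AltRows (x4 x4_mem t6 t6_mem x11 x11_mem)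
open Cfsg.Agent.H175.Ore.AltRowsB (exists_combB vB rows24)

universe u

set_option maxHeartbeats 1000000 in
theorem apply_one_ne {χ : Cfsg.Spor.HN → ℂ} (hχ : IsIrrCharacter Cfsg.Spor.HN χ) {d : ℕ} (hd : χ 1 = (d : ℂ)) :
    d ≠ 1728 := by
  intro hd'
  have hfin := Cfsg.Agent.H710.Spor.HN.finite_hn
  have hcl : ∀ {g h : Cfsg.Spor.HN}, IsConj g h → χ g = χ h := by
    intro g h H
    obtain ⟨c, rfl⟩ := isConj_iff.1 H
    exact (isIrr_isClassFunction hχ g c).symm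
  obtain ⟨n, hn⟩ := exists_combB (θ := χ ∘ Φ) (isCharacter_comp Φ (isIrr_isCharacter hχ)) (d := d)
    (by rw [Function.comp_apply, map_one, hd]) (by rw [hd'])
  have e0 := hn 0
  have e1 := hn 1
  have e2 := hn 2
  have e3 := hn 3
  clear hn
  change (χ ∘ Φ) 1 = _ at e0
  change (χ ∘ Φ) ⟨x1, x1_mem⟩ - (χ ∘ Φ) ⟨x4, x4_mem⟩ = _ at e1
  change (χ ∘ Φ) ⟨t2, t2_mem⟩ - (χ ∘ Φ) ⟨t6, t6_mem⟩ = _ at e2
  change (χ ∘ Φ) ⟨x11, x11_mem⟩ + (χ ∘ Φ) ⟨x11, x11_mem⟩⁻¹ = _ at e3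
  rw [Function.comp_apply] at e0
  rw [Function.comp_apply, Function.comp_apply] at e1 e2 e3
  rw [map_one, hd] at e0
  rw [hcl conj_three, sub_self] at e1
  rw [hcl conj_two, sub_self] at e2
  have f0 := (Int.cast_inj (α := ℂ)).1 ((Int.cast_natCast d).trans e0)
  have f1 := (Int.cast_inj (α := ℂ)).1 (Int.cast_zero.trans e1)
  have f2 := (Int.cast_inj (α := ℂ)).1 (Int.cast_zero.trans e2)
  clear e0 e1 e2
  have f0' : (1728 : ℤ) = (d : ℤ) := by rw [hd']; rfl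
  obtain ⟨e, he⟩ : ∃ e : ℤ, e = ∑ i : Fin 24, (n i : ℤ) * (rows24.getD i []).getD ((3 : Fin 4) : ℕ) 0 := ⟨_, rfl⟩
  rw [← he] at e3
  refine false_of (f0'.trans f0) f1 f2 he ?_
  clear f0 f0' f1 f2 he
  have hx := Cfsg.Agent.H507.Conj.normSq_le_card hχ (Φ ⟨x11, x11_mem⟩)
  rw [card_cent order_x11] at hx
  rw [map_inv, isCharacter_apply_inv (isIrr_isCharacter hχ)] at e3
  generalize χ (Φ ⟨x11, x11_mem⟩) = z at e3 hx
  have h1 := congrArg Complex.re e3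
  rw [Complex.add_re, Complex.conj_re, Complex.intCast_re] at h1
  rw [Complex.normSq_apply] at hx
  by_contra hcon
  have h2 : (10 : ℝ) ≤ e := by exact_mod_cast (by omega : (10 : ℤ) ≤ e)
  push_cast at hx
  nlinarith [sq_nonneg z.im]

/-- **A group isomorphic to `HN` has no irreducible character of degree 1728.** -/
theorem charDegree_ne {S : Type u} [Group S] (h : Spor.IsoHN S) (χ : IrrCharacter S) :
    charDegree (χ : S → ℂ) ≠ 1728 := by
  intro hd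
  obtain ⟨e⟩ := h
  have hirr : IsIrrCharacter Cfsg.Spor.HN ((χ : S → ℂ) ∘ e.symm.toMonoidHom) :=
    isIrr_comp e.symm.toMonoidHom e.symm.surjective χ.2
  obtain ⟨k, -, hk⟩ := isIrr_apply_one χ.2
  rw [Blocks.Basic.charDegree_of_eq hk] at hd
  refine apply_one_ne hirr (d := k) ?_ hd
  change (χ : S → ℂ) (e.symm 1) = _
  rw [map_one, hk]

end Cfsg.Agent.H175.Ore.HN1728
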