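import Cfsg.Agent.H175.Ore.SymTab

/-!
# The characters of small degree of the symmetric group of degree 12 (helper175)
-/

set_option autoImplicit false

namespace Cfsg.Agent.H175.Ore.SymTab

open Finset Cfsg.Agent.H614

/-- the rows `(χ(1), χ(3) - χ(3^4), χ(2^2) - χ(2^6), χ(11), χ(2^2), χ(2^4))` -/
def rows : List (List ℤ) := [[1, 0, 0, 1, 1, 1], [11, 9, 8, 0, 7, 3], [54, 27, 16, -1, 22, 6], [55, 27, 24, 0, 19, -1],
  [132, 0, 0, 0, 20, 4], [154, 45, 48, 0, 42, 10], [165, 54, 16, 0, 21, -11], [275, 54, 40, 0, 55, 11],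
  [297, 27, 64, 0, 49, 9], [320, 108, 64, 1, 64, 0], [330, 81, -16, 0, -6, -6], [462, -54, -16, 0, 14, -2],
  [462, 81, -32, 0, -42, 14], [616, 108, 32, 0, 56, 8]]

/-- the values of a character -/
def vec (b : List ℕ) : List ℤ :=
  [ev 12 [] 12 b, ev 12 [3] 9 b - ev 12 [3, 3, 3, 3] 0 b, ev 12 [2, 2] 8 b - ev 12 [2, 2, 2, 2, 2, 2] 0 b,
    ev 12 [11] 1 b, ev 12 [2, 2] 8 b, ev 12 [2, 2, 2, 2] 4 b]

/-- the check -/
def chk (b : List ℕ) : Bool :=
  decide (1540 < ev 12 [] 12 b) || (decide (ev 12 [2] 10 b ≠ 0) &&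
    (decide (770 < ev 12 [] 12 b) || decide (vec b ∈ rows)))

theorem en_chk : en chk 12 0 78 [] = true := by decide +kernel

end Cfsg.Agent.H175.Ore.SymTab
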