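import Cfsg.Agent.H614.Degree

/-!
# Evaluation of Frobenius' functions on lists; enumeration of the tuples (helper175)

* `ev ν k b` : the value of `F (ν ++ 1 ^ k)` at the tuple with list `b` (kernel friendly);
* `en_spec` : enumeration of the strictly increasing lists of given length and sum.
-/

set_option autoImplicit false

namespace Cfsg.Agent.H175.Ore.SymTab

open Finset Cfsg.Agent.H614

/-- evaluation of a number first -/
def fc {α : Type*} (n : ℕ) (f : ℕ → α) : α := Nat.rec (f 0) (fun k _ => f (k + 1)) n

theorem fc_eq {α : Type*} (n : ℕ) (f : ℕ → α) : fc n f = f n := by cases n <;> rfl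

/-- the product of the differences with `a` -/
def dl (a : ℕ) : List ℕ → ℤ
  | [] => 1
  | b :: l => ((b : ℤ) - a) * dl a l

/-- the product of the differences -/
def vdm : List ℕ → ℤ
  | [] => 1
  | a :: l => dl a l * vdm l

/-- the product of the factorials -/
def fac : List ℕ → ℕ
  | [] => 1
  | a :: l => a.factorial * fac l

theorem dl_ofFn (a : ℕ) : ∀ {m : ℕ} (β : Fin m → ℕ), dl a (List.ofFn β) = ∏ j, ((β j : ℤ) - a) := by
  intro m
  induction m with
  | zero => intro β; simp [dl]
  | succ m ih => intro β; rw [List.ofFn_succ, dl, ih, Fin.prod_univ_succ]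

theorem vdm_ofFn : ∀ {m : ℕ} (β : Fin m → ℕ),
    vdm (List.ofFn β) = ∏ i : Fin m, ∏ j ∈ Ioi i, ((β j : ℤ) - β i) := by
  intro m
  induction m with
  | zero => intro β; simp [vdm]
  | succ m ih =>
    intro β
    rw [List.ofFn_succ, vdm, ih, dl_ofFn, Fin.prod_univ_succ, Fin.prod_Ioi_zero]
    congr 1
    refine Finset.prod_congr rfl fun i _ => ?_
    rw [Fin.prod_Ioi_succ]

theorem fac_ofFn : ∀ {m : ℕ} (β : Fin m → ℕ), (fac (List.ofFn β) : ℤ) = ∏ i, ((β i).factorial : ℤ) := by
  intro m
  induction m with
  | zero => intro β; simp [fac]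
  | succ m ih => intro β; rw [List.ofFn_succ, fac, Nat.cast_mul, ih, Fin.prod_univ_succ]

/-- finite sums -/
def sumTo (f : ℕ → ℤ) : ℕ → ℤ
  | 0 => 0
  | n + 1 => sumTo f n + f n

theorem sumTo_eq (f : ℕ → ℤ) (n : ℕ) : sumTo f n = ∑ i ∈ range n, f i := by
  induction n with
  | zero => rfl
  | succ n ih => rw [sumTo, ih, Finset.sum_range_succ]

/-- the value of `F (ν ++ 1 ^ k)` -/
def ev (m : ℕ) : List ℕ → ℕ → List ℕ → ℤ
  | [], k, b => (k.factorial * vdm b) / (fac b : ℤ)
  | r :: ν, k, b => sumTo (fun j => fc (b.getD j 0) fun y => bif Nat.ble r y then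
      (fc (y - r) fun x => bif b.any (Nat.beq x) then 0 else ev m ν k (b.set j x)) else 0) m

theorem set_ofFn {m : ℕ} (β : Fin m → ℕ) (j : Fin m) (x : ℕ) :
    (List.ofFn β).set j x = List.ofFn (Function.update β j x) := by
  refine List.ext_getElem (by simp) fun i h1 h2 => ?_
  rw [List.getElem_set, List.getElem_ofFn, List.getElem_ofFn]
  by_cases h : (j : ℕ) = i
  · subst h
    simp
  · rw [if_neg h, Function.update_of_ne]
    intro h'
    exact h (by rw [← h'])

theorem getD_ofFn {m : ℕ} (β : Fin m → ℕ) (j : Fin m) : (List.ofFn β).getD j 0 = β j := by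
  rw [List.getD_eq_getElem _ _ (by simp), List.getElem_ofFn]

theorem F_eq_ev {m : ℕ} (ν : List ℕ) (hν : ∀ r ∈ ν, 0 < r) (k : ℕ) : ∀ (β : Fin m → ℕ),
    ∑ i, β i = ν.sum + k + ∑ i : Fin m, (i : ℕ) → F (ν ++ List.replicate k 1) β = ev m ν k (List.ofFn β) := by
  induction ν with
  | nil =>
    intro β hs
    have h1 := FM_ones_formula k β (by simpa using hs)
    have h2 : FM (Multiset.replicate k 1) β = F (List.replicate k 1) β := by
      rw [← Multiset.coe_replicate]; rfl
    rw [h2, ← vdm_ofFn, ← fac_ofFn] at h1
    have h3 : (fac (List.ofFn β) : ℤ) ≠ 0 := by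
      rw [fac_ofFn]
      exact Finset.prod_ne_zero_iff.2 fun i _ => by exact_mod_cast (Nat.factorial_pos _).ne'
    rw [ev, List.nil_append, ← h1, Int.mul_ediv_cancel _ h3]
  | cons r ν ih =>
    intro β hs
    rw [List.cons_append, F_cons, ev, sumTo_eq, Finset.sum_range]
    refine Finset.sum_congr rfl fun j _ => ?_
    rw [fc_eq, fc_eq, getD_ofFn]
    by_cases hr : r ≤ β j
    · rw [if_pos hr, Nat.ble_eq_true_of_le hr, cond_true]
      cases hb : (List.ofFn β).any (Nat.beq (β j - r)) with
      | true =>
        rw [cond_true]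
        obtain ⟨x, hx, hx2⟩ := List.any_eq_true.1 hb
        obtain ⟨i, rfl⟩ := List.mem_ofFn.1 hx
        have h1 := Nat.eq_of_beq_eq_true hx2
        have h0 := hν r List.mem_cons_self
        have hij : i ≠ j := by rintro rfl; omega
        refine (F_alt _).eq_zero_of_not_injective two_torsion_int fun hinj => hij ?_
        apply hinj
        rw [dn_ne _ _ hij, dn_self, h1]
      | false =>
        rw [cond_false, set_ofFn]
        refine ih (fun s hs => hν s (List.mem_cons_of_mem _ hs)) (dn β j r) ?_
        have h1 := sum_dn β j hr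
        rw [List.sum_cons] at hs
        omega
    · rw [if_neg hr]
      have h1 : Nat.ble r (β j) = false := by
        rw [Bool.eq_false_iff]; intro h; exact hr (Nat.le_of_ble_eq_true h)
      rw [h1, cond_false]

/-! ### The enumeration -/

/-- all `i < n` -/
def allTo (f : ℕ → Bool) : ℕ → Bool
  | 0 => true
  | n + 1 => bif f n then allTo f n else false

theorem allTo_spec {f : ℕ → Bool} {n : ℕ} (h : allTo f n = true) : ∀ i < n, f i = true := by
  induction n with
  | zero => intro i hi; omega
  | succ n ih =>
    rw [allTo] at h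
    cases hf : f n with
    | false => rw [hf] at h; exact absurd h (by simp)
    | true =>
      rw [hf, cond_true] at h
      intro i hi
      rcases Nat.lt_succ_iff_lt_or_eq.1 hi with h1 | rfl
      · exact ih h i h1
      · exact hf

/-- check all the lists `acc ++ l`, `l` strictly increasing of length `k` and sum `s`, with entries at least `lo` -/
def en (P : List ℕ → Bool) : ℕ → ℕ → ℕ → List ℕ → Bool
  | 0, _, s, acc => bif Nat.beq s 0 then P acc else true
  | k + 1, lo, s, acc => allTo (fun i => fc (lo + i) fun x =>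
      bif Nat.ble ((k + 1) * (k + 1) + 2 * (k + 1) * x) (2 * s + (k + 1)) then
        (fc (s - x) fun s' => en P k (x + 1) s' (acc ++ [x])) else true) (s + 1 - lo)

theorem low {l : List ℕ} : ∀ (lo : ℕ), l.Pairwise (· < ·) → (∀ x ∈ l, lo ≤ x) →
    l.length * l.length + 2 * l.length * lo ≤ 2 * l.sum + l.length := by
  induction l with
  | nil => intro lo _ _; simp
  | cons x l ih =>
    intro lo hp hlo
    have h1 := ih (x + 1) hp.of_cons (fun y hy => List.rel_of_pairwise_cons hp hy)
    have h2 := hlo x List.mem_cons_self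
    rw [List.length_cons, List.sum_cons]
    nlinarith

theorem en_spec {P : List ℕ → Bool} : ∀ (k lo s : ℕ) (acc : List ℕ), en P k lo s acc = true →
    ∀ l : List ℕ, l.length = k → l.Pairwise (· < ·) → (∀ x ∈ l, lo ≤ x) → l.sum = s → P (acc ++ l) = true := by
  intro k
  induction k with
  | zero =>
    intro lo s acc h l hl _ _ hs
    rw [List.length_eq_zero_iff] at hl
    subst hl
    rw [List.sum_nil] at hs
    subst hs
    rw [en, show Nat.beq 0 0 = true from rfl, cond_true] at h
    rw [List.append_nil]
    exact h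
  | succ k ih =>
    intro lo s acc h l hl hp hlo hs
    rw [en] at h
    have h1 := allTo_spec h
    match l, hl with
    | x :: l, hl =>
      have hx := hlo x List.mem_cons_self
      rw [List.sum_cons] at hs
      have h2 := h1 (x - lo) (by omega)
      rw [fc_eq, Nat.add_sub_cancel' hx, fc_eq] at h2
      have hl' : l.length = k := by simpa using hl
      have h3 : Nat.ble ((k + 1) * (k + 1) + 2 * (k + 1) * x) (2 * s + (k + 1)) = true := by
        apply Nat.ble_eq_true_of_le
        have h4 := low (l := x :: l) x hp (by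
          intro y hy
          rcases List.mem_cons.1 hy with rfl | hy
          · exact le_rfl
          · exact (List.rel_of_pairwise_cons hp hy).le)
        rw [List.length_cons, hl', List.sum_cons, hs] at h4
        exact h4
      rw [h3, cond_true] at h2
      have h5 := ih (x + 1) (s - x) (acc ++ [x]) h2 l hl' hp.of_cons
        (fun y hy => List.rel_of_pairwise_cons hp hy) (by omega)
      rw [List.append_assoc, List.singleton_append] at h5
      exact h5

/-- the enumeration of the tuples -/
theorem of_en {P : List ℕ → Bool} {m s : ℕ} (h : en P m 0 s [] = true) {β : Fin m → ℕ} (hβ : StrictMono β)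
    (hs : ∑ i, β i = s) : P (List.ofFn β) = true := by
  have h1 := en_spec m 0 s [] h (List.ofFn β) (by simp) (List.pairwise_ofFn.2 fun i j hij => hβ hij)
    (fun _ _ => Nat.zero_le _) (by rw [List.sum_ofFn, hs])
  simpa using h1

end Cfsg.Agent.H175.Ore.SymTab
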